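import Cfsg.Agent.H0.TC
set_option maxRecDepth 100000
namespace H0.TCWB40
open H0
noncomputable def r0 : TC.WTr := (.node (.node (.node (.node (.node (.node (.leaf [0] 0 0 false) (.leaf [1, 9, 3, 2] 30 1 false)) (.node (.leaf [5, 5, 8] 17 0 false) (.leaf [3, 2, 6, 1] 30 3 false))) (.node (.node (.leaf [6, 5, 2, 8] 31 2 false) (.leaf [7] 7 1 false)) (.leaf [5] 4 0 false))) (.node (.node (.node (.leaf [0] 0 0 false) (.leaf [1, 4, 6, 2] 31 3 true)) (.leaf [5] 4 0 false)) (.node (.node (.leaf [1] 1 1 false) (.leaf [8, 8, 8] 10 0 true)) (.leaf [4] 4 1 false)))) (.node (.node (.node (.node (.leaf [8, 0, 8] 28 0 false) (.leaf [6] 6 0 false)) (.leaf [8, 9, 0, 4, 0] 32 0 true)) (.node (.node (.leaf [1] 1 1 false) (.leaf [1, 6, 5, 2] 31 1 false)) (.leaf [0, 9, 7, 3, 0] 32 1 false))) (.node (.node (.node (.leaf [1, 4, 1, 0] 23 3 true) (.leaf [8] 7 0 false)) (.leaf [1, 0, 1, 1] 23 0 true)) (.node (.node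 (.leaf [1] 1 1 false) (.leaf [8, 6] 11 0 true)) (.leaf [6] 6 0 false))))) (.node (.node (.node (.node (.node (.leaf [1, 3, 2] 22 1 false) (.leaf [9, 8] 11 2 true)) (.node (.leaf [2, 0, 1] 22 3 false) (.leaf [2, 6, 1, 3] 30 1 true))) (.node (.node (.leaf [9, 3, 2, 6] 30 2 false) (.leaf [0, 8, 0] 28 1 false)) (.leaf [4] 4 1 false))) (.node (.node (.node (.leaf [2] 1 0 false) (.leaf [8] 7 0 false)) (.leaf [2, 4, 2] 27 1 false)) (.node (.node (.leaf [1] 1 1 false) (.leaf [9] 9 0 false)) (.leaf [4] 4 1 false)))) (.node (.node (.node (.node (.leaf [0] 0 0 false) (.leaf [8] 7 0 false)) (.leaf [3] 3 0 false)) (.node (.node (.leaf [1] 1 1 false) (.leaf [9, 0, 4, 0, 3] 32 1 true)) (.leaf [6, 5, 5, 3] 16 3 false))) (.node (.node (.node (.leaf [3, 2, 0] 22 2 false) (.leaf [8] 7 0 false)) (.leaf [6, 2, 7, 1] 31 0 true)) (.node (.node (.leaf [3] 3 0 false) (.leaf [6, 7] 11 2 false)) (.leaf [0, 6, 0]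 29 1 false))))))
noncomputable def tS : Tr := (.leaf (nat_lit 0xff6f5c0a3444534d7c4d5cff4e525c4a2a3d2b3a1b0aff2d1d2525462457570925ff2a56673f2d3f1a097767ff23131b134f1236260013ff34174e461b2624003616ff19111911111919151400ff000000000000000b0a09))
noncomputable def tJ : Tr := (.leaf (nat_lit 0x702483001032004000023018102202010061203300032640102202210061200012020620001101101006005555555000))
noncomputable def tQ : Tr := (.leaf (nat_lit 0x0))
noncomputable def tR : TC.WTr := r0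
def hl : List ℕ := [3, 4, 5, 5, 4, 6, 7, 8, 8, 7, 9]
def B : List (List ℕ) := [[0, 0], [1, 2], [2, 1], [3, 3], [4, 5], [5, 4], [6, 6], [7, 8], [8, 7], [9, 9], [7, 7, 7, 7], [6, 7, 9], [6, 7, 6, 7], [6, 7, 6, 8, 6, 7, 6, 8], [6, 8, 6, 8], [4, 4, 4, 4, 4, 4], [5, 5, 3, 5, 6], [3, 5, 5, 8], [3, 4, 3, 4, 3, 4, 3, 4], [3, 4, 3, 5, 3, 4, 3, 5, 3, 4, 3, 5], [3, 5, 3, 5, 3, 5, 3, 5], [1, 1, 1, 1], [2, 0, 1, 3], [2, 2, 0, 2, 5], [0, 1, 0, 1, 0, 1, 0, 1, 0, 1, 0, 1], [0, 1, 0, 2, 0, 1, 0, 2, 0, 1, 0, 2, 0, 1, 0, 2, 0, 1, 0, 2, 0, 1, 0, 2], [0, 2, 0, 2, 0, 2, 0, 2, 0, 2, 0, 2], [2, 4, 2, 4], [0, 8, 0, 8], [0, 6, 0, 6], [2, 6, 1, 9, 3], [2, 8, 1, 6, 5], [0, 5, 0, 9, 7, 3]]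
def subs : List (List ℕ) := [[3], [4], [5], [6], [7], [8], [9]]
def ex : List (List ℕ) := []
def inv (x : ℕ) : ℕ := [0, 2, 1, 3, 5, 4, 6, 8, 7, 9].getD x 0
noncomputable def rS : ℕ → ℕ := rowOf tS (nat_lit 8) (nat_lit 255) (nat_lit 88) (nat_lit 309485009821345068724781055)
noncomputable def rJ : ℕ → ℕ := rowOf tJ (nat_lit 8) (nat_lit 255) (nat_lit 48) (nat_lit 281474976710655)
noncomputable def C : TC.Cfg where
  S := look rS (nat_lit 8) (nat_lit 255)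
  J := look rJ (nat_lit 4) (nat_lit 15)
  Q := lookQ tQ (nat_lit 8) (nat_lit 1) (nat_lit 1)
  R := tR.get
  hl := fun x => hl.contains x
  n := (nat_lit 8)
  M := (nat_lit 8)
  top := (nat_lit 128)
  nl := (nat_lit 10)
  need := (nat_lit 10)
  nr := (nat_lit 5)
theorem k0 : TC.chkRange C 0 1 = true := by decide +kernel
theorem rows0 : ∀ c < (0 + 1) * 64, c < C.M → TC.chkRow C c = true :=
  TC.rows_step (TC.rows_zero C) k0
theorem main {G : Type*} [Group G] (g : ℕ → G) (hB : ∀ r ∈ B, ev g r = 1) (H : Subgroup G)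
    (hH : ∀ w ∈ subs, ev g w ∈ H) :
    H.relIndex (Subgroup.closure (g '' {x | x < 10})) ≠ 0 ∧
      H.relIndex (Subgroup.closure (g '' {x | x < 10})) ≤ 8 :=
  TC.index_le C B subs ex inv hl tR.hint rfl (by decide +kernel) (by decide +kernel)
    (TC.rows_done rows0 (by decide +kernel)) g hB H hH
end H0.TCWB40
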